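import Groth.Agent.FMKernelLib.Main
import Groth.Agent.RpushLib.BCMap
import Groth.Agent.SecDivLib.Family
import Groth.Agent.AffProjFormLib.Basic
import Groth.Prelude.Def_CohBC2

/-!
# Kernel functors and affine base change
-/

set_option autoImplicit false
set_option linter.style.haveILetI false
set_option linter.unusedSectionVars false
set_option backward.isDefEq.respectTransparency false
set_option backward.isDefEq.respectTransparency.types false
set_option maxHeartbeats 1000000

universe u

open CategoryTheory CategoryTheory.Limits AlgebraicGeometry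

noncomputable section

namespace FMBCLib

/-- Base change along an affine morphism is an isomorphism for quasi-coherent modules. -/
theorem isIso_bc0_affine {X S X' S' : Scheme.{u}} {f : X ⟶ S} {g : S' ⟶ S} {f' : X' ⟶ S'} {g' : X' ⟶ X}
    (H : IsPullback g' f' f g) [IsAffineHom f] (M : X.Modules) [Coh.IsQCoh M] :
    IsIso (CohBC.bc0 f g f' g' H.w M) := by
  haveI : Coh.IsQCoh ((Scheme.Modules.pushforward f).obj M) := QCohLib.isQCoh_pushforward f M
  have h := RpushLib.isIso_bcMap_of H M fun US UT hUS hUT hg => RpushLib.bijective_bc_affine H M hUS hUT hg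
  exact h

variable {X Y P X' P' : Scheme.{u}} {p : P ⟶ X} {q : P ⟶ Y} {f : X' ⟶ X} {g : P' ⟶ P} {p' : P' ⟶ X'}
  {q' : P' ⟶ Y}

/-- The kernel functor after an affine direct image. -/
theorem nonempty_push_comp_fm (H : IsPullback p' g f p) [IsAffineHom f] (hq : g ≫ q = q') (K : P.Modules)
    (hK : Coh.IsQCoh K) :
    Nonempty (ObjectProperty.ι (QCohCat.isQCoh X') ⋙ Coh.push f ⋙
        (Scheme.Modules.pullback p ⋙ DCoh.tensorRightMod K ⋙ Coh.push q) ≅
      ObjectProperty.ι (QCohCat.isQCoh X') ⋙
        (Scheme.Modules.pullback p' ⋙ DCoh.tensorRightMod ((Scheme.Modules.pullback g).obj K) ⋙ Coh.push q')) := by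
  subst hq
  haveI : IsAffineHom g := MorphismProperty.of_isPullback H ‹IsAffineHom f›
  haveI : Coh.IsQCoh K := hK
  let T := DCoh.tensorRightMod K
  let T' := DCoh.tensorRightMod ((Scheme.Modules.pullback g).obj K)
  let pb := Scheme.Modules.pullback p'
  let β : ∀ M : QCohCat.QCoh X', (Scheme.Modules.pullback p).obj ((Scheme.Modules.pushforward f).obj M.obj) ⟶
      (Scheme.Modules.pushforward g).obj (pb.obj M.obj) := fun M => CohBC.bc0 f p g p' H.w M.obj
  let π : ∀ M : QCohCat.QCoh X', T.obj ((Scheme.Modules.pushforward g).obj (pb.obj M.obj)) ⟶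
      (Scheme.Modules.pushforward g).obj (T'.obj (pb.obj M.obj)) := fun M =>
    ProjClosedImmLib.projR g (pb.obj M.obj) K
  haveI hβ : ∀ M, IsIso (β M) := fun M => by
    haveI : Coh.IsQCoh M.obj := M.property
    exact isIso_bc0_affine H M.obj
  haveI hπ : ∀ M, IsIso (π M) := fun M => by
    haveI : Coh.IsQCoh M.obj := M.property
    haveI : Coh.IsQCoh (pb.obj M.obj) := KFlatLib.isQCoh_pullback p' M.obj
    haveI : Coh.IsQCoh ((Scheme.Modules.pullback g).obj K) := KFlatLib.isQCoh_pullback g K
    haveI : Coh.IsQCoh (KFlatLib.pf g (pb.obj M.obj)) := QCohLib.isQCoh_pushforward g _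
    haveI : Coh.IsQCoh (KFlatLib.tens (KFlatLib.pf g (pb.obj M.obj)) K) :=
      (Groth.Agent.S2297.result (KFlatLib.pf g (pb.obj M.obj)) K).1
    haveI : Coh.IsQCoh (KFlatLib.tens (pb.obj M.obj) (KFlatLib.pb g K)) :=
      (Groth.Agent.S2297.result (pb.obj M.obj) ((Scheme.Modules.pullback g).obj K)).1
    exact AffProjFormLib.isIso_projR g (pb.obj M.obj) K
  let C := Scheme.Modules.pushforwardComp g q
  refine ⟨NatIso.ofComponents (fun M => (Scheme.Modules.pushforward q).mapIso (T.mapIso (asIso (β M)) ≪≫ asIso (π M)) ≪≫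
    C.app (T'.obj (pb.obj M.obj))) ?_⟩
  intro M N a
  have h1 : (Scheme.Modules.pullback p).map ((Scheme.Modules.pushforward f).map a.hom) ≫ β N =
      β M ≫ (Scheme.Modules.pushforward g).map (pb.map a.hom) := SecDivLib.bc0_naturality H.w a.hom
  have h2 : T.map ((Scheme.Modules.pushforward g).map (pb.map a.hom)) ≫ π N =
      π M ≫ (Scheme.Modules.pushforward g).map (T'.map (pb.map a.hom)) :=
    ProjClosedImmLib.projR_natural_left g (pb.map a.hom) K
  have h3 : T.map ((Scheme.Modules.pullback p).map ((Scheme.Modules.pushforward f).map a.hom)) ≫ T.map (β N) ≫ π N =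
      (T.map (β M) ≫ π M) ≫ (Scheme.Modules.pushforward g).map (T'.map (pb.map a.hom)) := by
    rw [← Category.assoc, ← Functor.map_comp, h1, Functor.map_comp, Category.assoc, h2, Category.assoc]
  have h4 := C.hom.naturality (T'.map (pb.map a.hom))
  change (Scheme.Modules.pushforward q).map (T.map ((Scheme.Modules.pullback p).map ((Scheme.Modules.pushforward f).map a.hom))) ≫
      ((Scheme.Modules.pushforward q).map (T.map (β N) ≫ π N) ≫ C.hom.app _) =
    ((Scheme.Modules.pushforward q).map (T.map (β M) ≫ π M) ≫ C.hom.app _) ≫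
      (Scheme.Modules.pushforward (g ≫ q)).map (T'.map (pb.map a.hom))
  rw [← Category.assoc, ← Functor.map_comp, h3, Functor.map_comp, Category.assoc, Category.assoc]
  exact congrArg (_ ≫ ·) h4

variable {Y' : Scheme.{u}} {v : Y' ⟶ Y} {h : P' ⟶ P} {r' : P' ⟶ X} {s' : P' ⟶ Y'}

/-- The kernel functor followed by an inverse image. -/
theorem nonempty_fm_comp_pullback (H : IsPullback h s' q v) [IsAffineHom q] (hr : h ≫ p = r') (K : P.Modules)
    (hK : Coh.IsQCoh K) :
    Nonempty ((ObjectProperty.ι (QCohCat.isQCoh X) ⋙ Scheme.Modules.pullback p ⋙ DCoh.tensorRightMod K ⋙ Coh.push q) ⋙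
        Scheme.Modules.pullback v ≅
      ObjectProperty.ι (QCohCat.isQCoh X) ⋙
        (Scheme.Modules.pullback r' ⋙ DCoh.tensorRightMod ((Scheme.Modules.pullback h).obj K) ⋙ Coh.push s')) := by
  subst hr
  let T := DCoh.tensorRightMod K
  let T' := DCoh.tensorRightMod ((Scheme.Modules.pullback h).obj K)
  let P₀ := Scheme.Modules.pullback p
  let β : ∀ M : QCohCat.QCoh X, (Scheme.Modules.pullback v).obj ((Scheme.Modules.pushforward q).obj (T.obj (P₀.obj M.obj))) ⟶
      (Scheme.Modules.pushforward s').obj ((Scheme.Modules.pullback h).obj (T.obj (P₀.obj M.obj))) := fun M =>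
    CohBC.bc0 q v s' h H.w (T.obj (P₀.obj M.obj))
  let θ : ∀ M : QCohCat.QCoh X, (Scheme.Modules.pullback h).obj (T.obj (P₀.obj M.obj)) ⟶
      T'.obj ((Scheme.Modules.pullback h).obj (P₀.obj M.obj)) := fun M => KFlatLib.pullθ h (P₀.obj M.obj) K
  haveI hβ : ∀ M, IsIso (β M) := fun M => by
    haveI : Coh.IsQCoh (T.obj (P₀.obj M.obj)) := FMKernelLib.isQCoh_tw p hK M
    exact isIso_bc0_affine H _
  haveI hθ : ∀ M, IsIso (θ M) := fun M => KFlatLib.isIso_pullθ h _ _
  let C := Scheme.Modules.pullbackComp h p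
  refine ⟨NatIso.ofComponents (fun M => asIso (β M) ≪≫
    (Scheme.Modules.pushforward s').mapIso (asIso (θ M) ≪≫ T'.mapIso (C.app M.obj))) ?_⟩
  intro M N a
  have h1 : (Scheme.Modules.pullback v).map ((Scheme.Modules.pushforward q).map (T.map (P₀.map a.hom))) ≫ β N =
      β M ≫ (Scheme.Modules.pushforward s').map ((Scheme.Modules.pullback h).map (T.map (P₀.map a.hom))) :=
    SecDivLib.bc0_naturality H.w (T.map (P₀.map a.hom))
  have h2 : (Scheme.Modules.pullback h).map (T.map (P₀.map a.hom)) ≫ θ N =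
      θ M ≫ T'.map ((Scheme.Modules.pullback h).map (P₀.map a.hom)) :=
    KFlatLib.pullθ_natural_left h (P₀.map a.hom) K
  have h3 : (Scheme.Modules.pullback h).map (P₀.map a.hom) ≫ C.hom.app N.obj =
      C.hom.app M.obj ≫ (Scheme.Modules.pullback (h ≫ p)).map a.hom := C.hom.naturality a.hom
  change (Scheme.Modules.pullback v).map ((Scheme.Modules.pushforward q).map (T.map (P₀.map a.hom))) ≫
      β N ≫ (Scheme.Modules.pushforward s').map (θ N ≫ T'.map (C.hom.app N.obj)) =
    (β M ≫ (Scheme.Modules.pushforward s').map (θ M ≫ T'.map (C.hom.app M.obj))) ≫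
      (Scheme.Modules.pushforward s').map (T'.map ((Scheme.Modules.pullback (h ≫ p)).map a.hom))
  rw [← Category.assoc, h1, Category.assoc, Category.assoc, ← Functor.map_comp, ← Functor.map_comp,
    ← Category.assoc, h2, Category.assoc, ← Functor.map_comp, h3]
  simp only [Functor.map_comp, Category.assoc]

end FMBCLib

end
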